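import Mathlib

set_option backward.isDefEq.respectTransparency false
set_option backward.isDefEq.respectTransparency.types false
set_option linter.style.haveILetI false
set_option autoImplicit false

universe u₁ v₁ u₂ v₂ u₃ v₃

open CategoryTheory Category

namespace Groth.Agent.OverLoc

variable {C : Type u₁} [Category.{v₁} C] (W : MorphismProperty C) [W.HasRightCalculusOfFractions] (S : C)

instance : (W.inverseImage (Over.forget S)).HasRightCalculusOfFractions where
  exists_rightFraction {X Y} φ := by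
    obtain ⟨ψ, hψ⟩ := (MorphismProperty.LeftFraction.mk φ.f.left φ.s.left φ.hs).exists_rightFraction
    refine ⟨MorphismProperty.RightFraction.mk (X' := Over.mk (ψ.s ≫ X.hom)) (Over.homMk ψ.s) ψ.hs
      (Over.homMk ψ.f ?_), Over.OverMorphism.ext hψ⟩
    change ψ.f ≫ Y.hom = ψ.s ≫ X.hom
    rw [← Over.w φ.f, ← Over.w φ.s, reassoc_of% hψ]
  ext {X Y Y'} f₁ f₂ s hs h := by
    obtain ⟨X', t, ht, h'⟩ := MorphismProperty.HasRightCalculusOfFractions.ext f₁.left f₂.left s.left hs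
      (congrArg CommaMorphism.left h)
    exact ⟨Over.mk (t ≫ X.hom), Over.homMk t, ht, Over.OverMorphism.ext h'⟩

variable {D : Type u₂} [Category.{v₂} D] (L : C ⥤ D) [L.IsLocalization W]
  {E : Type u₃} [Category.{v₃} E] (L' : Over S ⥤ E) [L'.IsLocalization (W.inverseImage (Over.forget S))]

include W in
theorem main (Φ : E ⥤ Over (L.obj S)) (e : L' ⋙ Φ ≅ Over.post L) : Φ.IsEquivalence := by
  let W' := W.inverseImage (Over.forget S)
  haveI := Localization.essSurj L' W'
  haveI := Localization.essSurj L W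
  have nat : ∀ {X Y : Over S} (k : X ⟶ Y),
      (Φ.map (L'.map k)).left ≫ (e.hom.app Y).left = (e.hom.app X).left ≫ L.map k.left := fun k =>
    congrArg CommaMorphism.left (e.hom.naturality k)
  -- faithful
  have hfaith : ∀ {X Y : Over S} (g₁ g₂ : L'.obj X ⟶ L'.obj Y), Φ.map g₁ = Φ.map g₂ → g₁ = g₂ := by
    intro X Y g₁ g₂ h
    obtain ⟨φ₁, rfl⟩ := Localization.exists_rightFraction L' W' g₁
    obtain ⟨φ₂, rfl⟩ := Localization.exists_rightFraction L' W' g₂
    obtain ⟨ψ, hψ⟩ := (MorphismProperty.LeftFraction.mk (W := W') φ₁.s φ₂.s φ₂.hs).exists_rightFraction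
    have hiso : IsIso (L'.map (ψ.s ≫ φ₁.s)) :=
      Localization.inverts L' W' _ (W'.comp_mem _ _ ψ.hs φ₁.hs)
    rw [← cancel_epi (L'.map (ψ.s ≫ φ₁.s))]
    have e1 : L'.map (ψ.s ≫ φ₁.s) ≫ φ₁.map L' (Localization.inverts L' W') = L'.map (ψ.s ≫ φ₁.f) := by
      rw [L'.map_comp, Category.assoc, MorphismProperty.RightFraction.map_s_comp_map, ← L'.map_comp]
    have e2 : L'.map (ψ.s ≫ φ₁.s) ≫ φ₂.map L' (Localization.inverts L' W') = L'.map (ψ.f ≫ φ₂.f) := by
      rw [show ψ.s ≫ φ₁.s = ψ.f ≫ φ₂.s from hψ, L'.map_comp, Category.assoc,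
        MorphismProperty.RightFraction.map_s_comp_map, ← L'.map_comp]
    rw [e1, e2]
    have h' : Φ.map (L'.map (ψ.s ≫ φ₁.f)) = Φ.map (L'.map (ψ.f ≫ φ₂.f)) := by
      rw [← e1, ← e2, Φ.map_comp, Φ.map_comp, h]
    have hL : L.map (ψ.s ≫ φ₁.f).left = L.map (ψ.f ≫ φ₂.f).left := by
      rw [← cancel_epi (e.hom.app _).left, ← nat, ← nat, h']
    obtain ⟨Z, t, ht, htf⟩ := (MorphismProperty.map_eq_iff_precomp L W _ _).1 hL
    let Z' : Over S := Over.mk (t ≫ ψ.X'.hom)
    let t' : Z' ⟶ ψ.X' := Over.homMk t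
    haveI : IsIso (L'.map t') := Localization.inverts L' W' t' ht
    rw [← cancel_epi (L'.map t'), ← L'.map_comp, ← L'.map_comp]
    exact congrArg L'.map (Over.OverMorphism.ext htf)
  -- full
  have hfull : ∀ {X Y : Over S} (g : Φ.obj (L'.obj X) ⟶ Φ.obj (L'.obj Y)), ∃ k, Φ.map k = g := by
    intro X Y g
    let g' : (Over.post L).obj X ⟶ (Over.post L).obj Y := e.inv.app X ≫ g ≫ e.hom.app Y
    obtain ⟨φ, hφ⟩ := Localization.exists_rightFraction L W g'.left
    haveI : IsIso (L.map φ.s) := Localization.inverts L W _ φ.hs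
    have hw : L.map (φ.f ≫ Y.hom) = L.map (φ.s ≫ X.hom) := by
      rw [L.map_comp, L.map_comp, show L.map X.hom = g'.left ≫ L.map Y.hom from (Over.w g').symm, hφ,
        MorphismProperty.RightFraction.map_s_comp_map_assoc]
    obtain ⟨Z, t, ht, htw⟩ := (MorphismProperty.map_eq_iff_precomp L W _ _).1 hw
    let Z' : Over S := Over.mk (t ≫ φ.s ≫ X.hom)
    let s' : Z' ⟶ X := Over.homMk (t ≫ φ.s) (by simp [Z'])
    let f' : Z' ⟶ Y := Over.homMk (t ≫ φ.f) (by simp [Z', htw])
    have hs' : W' s' := W.comp_mem _ _ ht φ.hs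
    haveI : IsIso (L'.map s') := Localization.inverts L' W' s' hs'
    refine ⟨inv (L'.map s') ≫ L'.map f', ?_⟩
    rw [← cancel_epi (Φ.map (L'.map s')), ← Φ.map_comp, IsIso.hom_inv_id_assoc]
    refine Over.OverMorphism.ext ?_
    rw [← cancel_mono (e.hom.app Y).left, Over.comp_left, Category.assoc, nat]
    change (e.hom.app Z').left ≫ L.map (t ≫ φ.f) = (Φ.map (L'.map s')).left ≫ g.left ≫ (e.hom.app Y).left
    have hg : g.left ≫ (e.hom.app Y).left = (e.hom.app X).left ≫ g'.left := by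
      simp only [g', Over.comp_left]
      rw [← Over.comp_left_assoc, Iso.hom_inv_id_app]
      simp
    rw [hg, hφ, reassoc_of% (nat s')]
    change _ = _ ≫ L.map (t ≫ φ.s) ≫ _
    rw [L.map_comp t φ.s, Category.assoc, MorphismProperty.RightFraction.map_s_comp_map, ← L.map_comp]
  haveI : Φ.Faithful := ⟨fun {P Q} {g₁ g₂} h => by
    rw [← cancel_epi (L'.objObjPreimageIso P).hom, ← cancel_mono (L'.objObjPreimageIso Q).inv]
    exact hfaith _ _ (by simp only [Φ.map_comp, h])⟩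
  haveI : Φ.Full := ⟨fun {P Q} g => by
    obtain ⟨k, hk⟩ := hfull (Φ.map (L'.objObjPreimageIso P).hom ≫ g ≫ Φ.map (L'.objObjPreimageIso Q).inv)
    refine ⟨(L'.objObjPreimageIso P).inv ≫ k ≫ (L'.objObjPreimageIso Q).hom, ?_⟩
    rw [Φ.map_comp, Φ.map_comp, hk]
    simp only [Category.assoc, ← Φ.map_comp, Iso.inv_hom_id, CategoryTheory.Functor.map_id, Category.comp_id]
    rw [← Φ.map_comp_assoc, Iso.inv_hom_id, CategoryTheory.Functor.map_id, Category.id_comp]⟩
  haveI : Φ.EssSurj := ⟨fun A => by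
    obtain ⟨φ, hφ⟩ := Localization.exists_rightFraction L W ((L.objObjPreimageIso A.left).hom ≫ A.hom)
    haveI : IsIso (L.map φ.s) := Localization.inverts L W _ φ.hs
    refine ⟨L'.obj (Over.mk φ.f), ⟨e.app _ ≪≫ Over.isoMk (asIso (L.map φ.s) ≪≫ L.objObjPreimageIso A.left) ?_⟩⟩
    change (L.map φ.s ≫ (L.objObjPreimageIso A.left).hom) ≫ A.hom = L.map φ.f
    rw [Category.assoc, hφ, MorphismProperty.RightFraction.map_s_comp_map]⟩
  exact ⟨inferInstance, inferInstance, inferInstance⟩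

end Groth.Agent.OverLoc
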