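import Groth.Agent.OverLoc.Basic
import Mathlib

set_option backward.isDefEq.respectTransparency false
set_option backward.isDefEq.respectTransparency.types false
set_option linter.style.haveILetI false
set_option autoImplicit false

/-!
Localisation of a full subcategory of a slice category stable under precomposition with the inverted morphisms.
-/

universe u₁ v₁ u₂ v₂ u₃ v₃

open CategoryTheory Category

namespace Groth.Agent.OverLoc

variable {C : Type u₁} [Category.{v₁} C] (W : MorphismProperty C) [W.HasRightCalculusOfFractions] (S : C)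
  (P : ObjectProperty (Over S))

theorem hasRightCalculusOfFractions_full (hP : ∀ {X Z : Over S} (f : Z ⟶ X), W f.left → P X → P Z) :
    ((W.inverseImage (Over.forget S)).inverseImage P.ι).HasRightCalculusOfFractions where
  exists_rightFraction {X Y} φ := by
    obtain ⟨ψ, hψ⟩ := (MorphismProperty.LeftFraction.mk φ.f.hom.left φ.s.hom.left φ.hs).exists_rightFraction
    let Z : Over S := Over.mk (ψ.s ≫ X.obj.hom)
    let s : Z ⟶ X.obj := Over.homMk ψ.s
    refine ⟨MorphismProperty.RightFraction.mk (X' := ⟨Z, hP s ψ.hs X.property⟩) (ObjectProperty.homMk s) ψ.hs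
      (ObjectProperty.homMk (Over.homMk ψ.f ?_)), ObjectProperty.hom_ext _ (Over.OverMorphism.ext hψ)⟩
    change ψ.f ≫ Y.obj.hom = ψ.s ≫ X.obj.hom
    rw [← Over.w φ.f.hom, ← Over.w φ.s.hom, reassoc_of% hψ]
  ext {X Y Y'} f₁ f₂ s hs h := by
    obtain ⟨X', t, ht, h'⟩ := MorphismProperty.HasRightCalculusOfFractions.ext f₁.hom.left f₂.hom.left s.hom.left hs
      (congrArg (fun k => k.hom.left) h)
    let Z : Over S := Over.mk (t ≫ X.obj.hom)
    let t' : Z ⟶ X.obj := Over.homMk t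
    exact ⟨⟨Z, hP t' ht X.property⟩, ObjectProperty.homMk t', ht,
      ObjectProperty.hom_ext _ (Over.OverMorphism.ext h')⟩

variable {D : Type u₂} [Category.{v₂} D] (L : C ⥤ D) [L.IsLocalization W]
  {E : Type u₃} [Category.{v₃} E] (L' : P.FullSubcategory ⥤ E)
  [L'.IsLocalization ((W.inverseImage (Over.forget S)).inverseImage P.ι)]

include W in
theorem full_faithful (hP : ∀ {X Z : Over S} (f : Z ⟶ X), W f.left → P X → P Z)
    (Φ : E ⥤ Over (L.obj S)) (e : L' ⋙ Φ ≅ P.ι ⋙ Over.post L) : Φ.Full ∧ Φ.Faithful := by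
  let W' := (W.inverseImage (Over.forget S)).inverseImage P.ι
  haveI : W'.HasRightCalculusOfFractions := hasRightCalculusOfFractions_full W S P hP
  haveI := Localization.essSurj L' W'
  have nat : ∀ {X Y : P.FullSubcategory} (k : X ⟶ Y),
      (Φ.map (L'.map k)).left ≫ (e.hom.app Y).left = (e.hom.app X).left ≫ L.map k.hom.left := fun k =>
    congrArg CommaMorphism.left (e.hom.naturality k)
  -- faithful
  have hfaith : ∀ {X Y : P.FullSubcategory} (g₁ g₂ : L'.obj X ⟶ L'.obj Y), Φ.map g₁ = Φ.map g₂ → g₁ = g₂ := by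
    intro X Y g₁ g₂ h
    obtain ⟨φ₁, rfl⟩ := Localization.exists_rightFraction L' W' g₁
    obtain ⟨φ₂, rfl⟩ := Localization.exists_rightFraction L' W' g₂
    obtain ⟨ψ, hψ⟩ := (MorphismProperty.LeftFraction.mk (W := W') φ₁.s φ₂.s φ₂.hs).exists_rightFraction
    have hiso : IsIso (L'.map (ψ.s ≫ φ₁.s)) :=
      Localization.inverts L' W' _ (W'.comp_mem _ _ ψ.hs φ₁.hs)
    rw [← cancel_epi (L'.map (ψ.s ≫ φ₁.s))]
    have e1 : L'.map (ψ.s ≫ φ₁.s) ≫ φ₁.map L' (Localization.inverts L' W') = L'.map (ψ.s ≫ φ₁.f) := by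
      rw [L'.map_comp, Category.assoc, MorphismProperty.RightFraction.map_s_comp_map, ← L'.map_comp]
    have e2 : L'.map (ψ.s ≫ φ₁.s) ≫ φ₂.map L' (Localization.inverts L' W') = L'.map (ψ.f ≫ φ₂.f) := by
      rw [show ψ.s ≫ φ₁.s = ψ.f ≫ φ₂.s from hψ, L'.map_comp, Category.assoc,
        MorphismProperty.RightFraction.map_s_comp_map, ← L'.map_comp]
    rw [e1, e2]
    have h' : Φ.map (L'.map (ψ.s ≫ φ₁.f)) = Φ.map (L'.map (ψ.f ≫ φ₂.f)) := by
      rw [← e1, ← e2, Φ.map_comp, Φ.map_comp, h]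
    have hL : L.map (ψ.s ≫ φ₁.f).hom.left = L.map (ψ.f ≫ φ₂.f).hom.left := by
      rw [← cancel_epi (e.hom.app _).left, ← nat, ← nat, h']
    obtain ⟨Z, t, ht, htf⟩ := (MorphismProperty.map_eq_iff_precomp L W _ _).1 hL
    let Z' : Over S := Over.mk (t ≫ ψ.X'.obj.hom)
    let t₀ : Z' ⟶ ψ.X'.obj := Over.homMk t
    let t' : (⟨Z', hP t₀ ht ψ.X'.property⟩ : P.FullSubcategory) ⟶ ψ.X' := ObjectProperty.homMk t₀
    haveI : IsIso (L'.map t') := Localization.inverts L' W' t' ht
    rw [← cancel_epi (L'.map t'), ← L'.map_comp, ← L'.map_comp]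
    exact congrArg L'.map (ObjectProperty.hom_ext _ (Over.OverMorphism.ext htf))
  -- full
  have hfull : ∀ {X Y : P.FullSubcategory} (g : Φ.obj (L'.obj X) ⟶ Φ.obj (L'.obj Y)), ∃ k, Φ.map k = g := by
    intro X Y g
    let g' : (Over.post L).obj X.obj ⟶ (Over.post L).obj Y.obj := e.inv.app X ≫ g ≫ e.hom.app Y
    obtain ⟨φ, hφ⟩ := Localization.exists_rightFraction L W g'.left
    haveI : IsIso (L.map φ.s) := Localization.inverts L W _ φ.hs
    have hw : L.map (φ.f ≫ Y.obj.hom) = L.map (φ.s ≫ X.obj.hom) := by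
      rw [L.map_comp, L.map_comp, show L.map X.obj.hom = g'.left ≫ L.map Y.obj.hom from (Over.w g').symm, hφ,
        MorphismProperty.RightFraction.map_s_comp_map_assoc]
    obtain ⟨Z, t, ht, htw⟩ := (MorphismProperty.map_eq_iff_precomp L W _ _).1 hw
    let Z₀ : Over S := Over.mk (t ≫ φ.s ≫ X.obj.hom)
    let s₀ : Z₀ ⟶ X.obj := Over.homMk (t ≫ φ.s) (by simp [Z₀])
    let f₀ : Z₀ ⟶ Y.obj := Over.homMk (t ≫ φ.f) (by simp [Z₀, htw])
    let Z' : P.FullSubcategory := ⟨Z₀, hP s₀ (W.comp_mem _ _ ht φ.hs) X.property⟩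
    let s' : Z' ⟶ X := ObjectProperty.homMk s₀
    let f' : Z' ⟶ Y := ObjectProperty.homMk f₀
    have hs' : W' s' := W.comp_mem _ _ ht φ.hs
    haveI : IsIso (L'.map s') := Localization.inverts L' W' s' hs'
    refine ⟨inv (L'.map s') ≫ L'.map f', ?_⟩
    rw [← cancel_epi (Φ.map (L'.map s')), ← Φ.map_comp, IsIso.hom_inv_id_assoc]
    refine Over.OverMorphism.ext ?_
    rw [← cancel_mono (e.hom.app Y).left, Over.comp_left, Category.assoc, nat]
    change (e.hom.app Z').left ≫ L.map (t ≫ φ.f) = (Φ.map (L'.map s')).left ≫ g.left ≫ (e.hom.app Y).left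
    have hg : g.left ≫ (e.hom.app Y).left = (e.hom.app X).left ≫ g'.left := by
      simp only [g', Over.comp_left]
      rw [← Over.comp_left_assoc, Iso.hom_inv_id_app]
      simp
    rw [hg, hφ, reassoc_of% (nat s')]
    change _ = _ ≫ L.map (t ≫ φ.s) ≫ _
    rw [L.map_comp t φ.s, Category.assoc, MorphismProperty.RightFraction.map_s_comp_map, ← L.map_comp]
  refine ⟨⟨fun {A B} g => ?_⟩, ⟨fun {A B} {g₁ g₂} h => ?_⟩⟩
  · obtain ⟨k, hk⟩ := hfull (Φ.map (L'.objObjPreimageIso A).hom ≫ g ≫ Φ.map (L'.objObjPreimageIso B).inv)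
    refine ⟨(L'.objObjPreimageIso A).inv ≫ k ≫ (L'.objObjPreimageIso B).hom, ?_⟩
    rw [Φ.map_comp, Φ.map_comp, hk]
    simp only [Category.assoc, ← Φ.map_comp, Iso.inv_hom_id, CategoryTheory.Functor.map_id, Category.comp_id]
    rw [← Φ.map_comp_assoc, Iso.inv_hom_id, CategoryTheory.Functor.map_id, Category.id_comp]
  · rw [← cancel_epi (L'.objObjPreimageIso A).hom, ← cancel_mono (L'.objObjPreimageIso B).inv]
    exact hfaith _ _ (by simp only [Φ.map_comp, h])

end Groth.Agent.OverLoc
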